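import Mathlib
import Cfsg.Agent.Lib.Amalg.Enum
import Cfsg.Agent.Lib.LieModel.L34.P.Main

/-! More letters for `L₃(4)` on 21 points (generated). -/

set_option autoImplicit false
set_option maxRecDepth 100000
set_option Elab.async false

namespace CfsgLib.ONRec

open CfsgLib.Comput CfsgLib.Amalg

noncomputable def m19 : Net :=
  (Net.cons 1 0x44440
  (Net.cons 2 0x10100
  (Net.cons 4 0x400
  (Net.cons 8 0x44
  (Net.cons 16 0x4
  (Net.cons 8 0x4
  (Net.cons 4 0x10500
  (Net.cons 2 0x32320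
  (Net.cons 1 0x44440
  Net.nil)))))))))

noncomputable def m20 : Net :=
  (Net.cons 2 0x10100
  (Net.cons 4 0x400
  (Net.cons 8 0x44
  (Net.cons 16 0x4
  (Net.cons 8 0x4
  (Net.cons 4 0x10500
  (Net.cons 2 0x32320
  Net.nil)))))))

noncomputable def m21 : Net :=
  (Net.cons 1 0x40110
  (Net.cons 2 0x22000
  (Net.cons 4 0x10000
  (Net.cons 8 0xdf
  (Net.cons 16 0x1f
  (Net.cons 8 0xf
  (Net.cons 4 0x10202
  (Net.cons 2 0x110
  (Net.cons 1 0x51154
  Net.nil)))))))))

noncomputable def m22 : Net :=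
  (Net.cons 1 0x11000
  (Net.cons 2 0x23310
  (Net.cons 4 0x700
  (Net.cons 8 0xa7
  (Net.cons 16 0x7
  (Net.cons 8 0x17
  (Net.cons 4 0x10704
  (Net.cons 2 0x2232
  (Net.cons 1 0x41540
  Net.nil)))))))))

noncomputable def m23 : Net :=
  (Net.cons 1 0x40010
  (Net.cons 2 0x10000
  (Net.cons 4 0x500
  (Net.cons 8 0x4
  (Net.cons 16 0x4
  (Net.cons 8 0x14
  (Net.cons 4 0x10502
  (Net.cons 2 0x32000
  (Net.cons 1 0x40054
  Net.nil)))))))))

noncomputable def m24 : Net :=
  (Net.cons 1 0x1044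
  (Net.cons 2 0x11010
  (Net.cons 4 0x500
  (Net.cons 8 0x4
  (Net.cons 16 0x4
  (Net.cons 8 0x14
  (Net.cons 4 0x10504
  (Net.cons 2 0x31032
  (Net.cons 1 0x5044
  Net.nil)))))))))

noncomputable def m25 : Net :=
  (Net.cons 1 0x44500
  (Net.cons 2 0x10320
  (Net.cons 4 0x10400
  (Net.cons 8 0xc0
  (Net.cons 16 0x5
  (Net.cons 8 0x18
  (Net.cons 4 0x10600
  (Net.cons 2 0x30320
  (Net.cons 1 0x44500
  Net.nil)))))))))

noncomputable def m26 : Net :=
  (Net.cons 1 0x10101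
  (Net.cons 2 0x2000
  (Net.cons 4 0x200
  (Net.cons 8 0x1f
  (Net.cons 16 0x1f
  (Net.cons 8 0x2
  (Net.cons 4 0x10201
  (Net.cons 2 0x2121
  (Net.cons 1 0x54541
  Net.nil)))))))))

noncomputable def mdl : Net :=
  (Net.cons 1 0x51100
  (Net.cons 4 0xe02
  (Net.cons 8 0xc0
  (Net.cons 16 0x2
  (Net.cons 8 0x2
  (Net.cons 4 0x10002
  (Net.cons 2 0x12220
  (Net.cons 1 0x50000
  Net.nil))))))))

/-- the letters -/
noncomputable def W21 : List Net := LieModel.L34.P.W ++ [Net.nil, m19, m20, m21, m22, m23, m24, m25, m26]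

/-- the letters and a diagonal automorphism -/
noncomputable def Wd : List Net := W21 ++ [mdl]

theorem W21_ok : allL (Net.ok 21) W21 = true := by decide +kernel

theorem Wd_ok : allL (Net.ok 21) Wd = true := by decide +kernel

/-- test of equations -/
noncomputable abbrev c21 : Eqn → Bool := eqChk (stepT 21 5 W21) (idTab 21 5)

/-- test of equations -/
noncomputable abbrev cd : Eqn → Bool := eqChk (stepT 21 5 Wd) (idTab 21 5)

def extP : Ext := [(1, 1, 0), (3, 3, 0), (4, 0, 0x303020404), (5, 5, 0), (6, 0, 0x40104010301), (7, 7, 0), (8, 0, 0x8060806060805), (9, 9, 0), (10, 0, 0x6060806060706), (11, 11, 0), (12, 0, 0x806080805070505), (13, 13, 0), (14, 0, 0xc0d), (15, 0, 0xd0a), (16, 0, 0xa0c0a), (17, 0, 0xc0a0a), (18, 0, 0), (19, 0, 15), (20, 0, 0xa0f09), (21, 0, 0x71107), (22, 0, 0x5080e12), (23, 0, 0x50f060f), (24, 0, 0x1050a01), (25, 0, 0x4060810), (26, 0, 0x12060f)]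

/-- the alphabet of the first 27 letters -/
abbrev AM : ℕ := 0x7ffffff

theorem extP_ok : band (allL c21 extP.eqns) (Nat.beq (extP.mask (lettersOf [1, 3])) AM) = true := by decide +kernel

theorem dl_ok : allL (fun e : ℕ × ℕ => band (inA AM e.2) (cd ([28, e.1], [e.2, 28]))) [(1, 0x8041b0d), (3, 0x2111902)] = true := by
  decide +kernel

/-- images of the generators -/
def sUV (s : Fin 4) : ℕ × ℕ := [(1, 3), (0x2111a11, 0x105151b), (0x160116, 0x2060418), (0xb0e1a, 0x402030c)].getD s (0, 0)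

/-- images of the four elements -/
def ws (s : Fin 4) : ℕ × ℕ × ℕ × ℕ := [(22, 23, 0x1619, 0x1718), (22, 0x1516171313, 0x161718191313, 0x141718131313), (0x1416, 0x1416171313, 0x1816191313, 0x1718161313), (0x1416, 0x1517, 0x171913, 0x16181713)].getD s (0, 0, 0, 0)

/-- images of the four elements -/
def wb (i : Fin 3 × Fin 4) : ℕ × ℕ × ℕ × ℕ := [(22, 23, 0x1619, 0x1718), (22, 0x151617, 0x16171819, 0x141718), (0x1416, 0x141617, 0x181619, 0x171816), (0x1416, 0x1517, 0x1719, 0x161817),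
  (0x16191718, 0x1619, 0x161718, 0x181916), (0x16191718, 0x1718, 0x1917, 0x181619), (0x16181719, 0x141718, 0x141617, 0x1517), (0x16181719, 0x141916, 0x1416, 0x1417),
  (0x151917, 0x161718, 23, 0x151617), (0x151917, 0x181916, 0x141516, 0x141617), (0x1719, 0x181619, 0x141718, 0x141916), (0x1719, 0x171816, 0x16181719, 0x1916)].getD (4 * i.1 + i.2) (0, 0, 0, 0)

/-- `b` is the image of `a` under a power of the diagonal automorphism -/
noncomputable def dB (k a b : ℕ) : Bool :=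
  band (band (inA AM a) (inA AM b)) (cd (List.replicate k 28 ++ [a], b :: List.replicate k 28))

theorem wb_ok : ∀ i : Fin 3 × Fin 4, band (band (dB i.1 (ws i.2).1 (wb i).1) (dB i.1 (ws i.2).2.1 (wb i).2.1))
    (band (dB i.1 (ws i.2).2.2.1 (wb i).2.2.1) (dB i.1 (ws i.2).2.2.2 (wb i).2.2.2)) = true := by decide +kernel

theorem ell_ok : band (c21 ([(ws 0).1, (ws 0).2.1], [(ws 0).2.1, (ws 0).1]))
    (c21 ([(ws 0).2.2.1, (ws 0).2.2.2], [(ws 0).2.2.2, (ws 0).2.2.1])) = true := by decide +kernel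

end CfsgLib.ONRec
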